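import Mathlib
import Cfsg.Agent.H495.OrderType
import Cfsg.Agent.S0034
import Cfsg.Agent.S0035
import Cfsg.Agent.S0039
import Cfsg.Agent.S0042
import Cfsg.Agent.S0003
import Cfsg.Agent.Lib.Cores
import Cfsg.Agent.Lib.NilpotentCoprime
import Cfsg.Agent.OddOrderLocal.CommProd
import Cfsg.Agent.PermutationGroups.AutSL25
import Cfsg.Agent.S3359

/-!
# Groups with the order type of a Frobenius group
-/

set_option autoImplicit false

namespace Cfsg.Agent.H495.Frob

open Cfsg.Agent.H495.OrderType
open scoped Pointwise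

/-- Basic facts about a Frobenius group. -/
theorem frob_data {F : Type*} [Group F] [Finite F] (C : Subgroup F)
    (hC : Cfsg.IsFrobeniusComplement C) :
    ∃ K : Subgroup F, (K : Set F) = Cfsg.frobeniusKernel C ∧ K.Normal ∧ Group.IsNilpotent K ∧
      Subgroup.IsComplement' K C ∧
      (Nat.card K).Coprime (Nat.card C) ∧ K ≠ ⊥ ∧
      ∀ x : F, x ∈ K ∨ ∃ g : F, x ∈ MulAut.conj g • C := by
  obtain ⟨K, hK, hKn, hKnil⟩ := Cfsg.Agent.S0042.result C hC
  obtain ⟨N, hN, -, hNC⟩ := Cfsg.Agent.S0035.result C hC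
  have hKN : N = K := SetLike.coe_injective (hN.trans hK.symm)
  subst hKN
  have hidx : C.index = Nat.card N := hNC.index_eq_card
  have hmod := (Cfsg.Agent.S0034.result C hC).2
  rw [hidx] at hmod
  refine ⟨N, hN, hKn, hKnil, hNC, ?_, ?_, ?_⟩
  · have h1 : Nat.gcd (Nat.card C) (Nat.card N) = Nat.gcd (Nat.card N % Nat.card C) (Nat.card C) :=
      Nat.gcd_rec _ _
    have h2 : Nat.gcd (Nat.card C) 1 = Nat.gcd (1 % Nat.card C) (Nat.card C) := Nat.gcd_rec _ _
    rw [hmod, ← h2, Nat.gcd_one_right] at h1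
    rw [Nat.coprime_comm]
    exact h1
  · rintro rfl
    have := hNC.sup_eq_top
    rw [bot_sup_eq] at this
    exact hC.2.1 this
  · intro x
    by_cases hx : x ∈ N
    · exact Or.inl hx
    · right
      have h1 : x ∉ Cfsg.frobeniusKernel C := by rwa [← hN]
      by_contra hcon
      push Not at hcon
      exact h1 (Or.inr hcon)

/-- In a Frobenius group no element has order `p q` with `p ∣ |K|` and `q ∣ |C|`. -/
theorem orderOf_dvd {F : Type*} [Group F] [Finite F] {C K : Subgroup F}
    (h : ∀ x : F, x ∈ K ∨ ∃ g : F, x ∈ MulAut.conj g • C) (x : F) :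
    orderOf x ∣ Nat.card K ∨ orderOf x ∣ Nat.card C := by
  rcases h x with h1 | ⟨g, h1⟩
  · exact Or.inl (Subgroup.orderOf_dvd_natCard K h1)
  · right
    obtain ⟨c, hc, rfl⟩ := h1
    have : orderOf (MulAut.conj g c) = orderOf c := MulEquiv.orderOf_eq _ _
    change orderOf (MulAut.conj g c) ∣ _
    rw [this]
    exact Subgroup.orderOf_dvd_natCard C hc

/-- The normal Sylow subgroups of a group with a nilpotent normal Hall subgroup. -/
theorem sylow_normal_of_hall {F : Type*} [Group F] [Finite F] {K : Subgroup F} (hK : K.Normal)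
    (hnil : Group.IsNilpotent K) (hcop : (Nat.card K).Coprime K.index) {p : ℕ} [Fact p.Prime]
    (hp : p ∣ Nat.card K) (P : Sylow p F) : (P : Subgroup F).Normal := by
  have hPK : (P : Subgroup F) ≤ K := by
    intro x hx
    rw [← QuotientGroup.eq_one_iff, ← orderOf_eq_one_iff]
    obtain ⟨k, hk⟩ := (IsPGroup.iff_orderOf.mp P.isPGroup') ⟨x, hx⟩
    rw [Subgroup.orderOf_mk] at hk
    have h1 : orderOf (x : F ⧸ K) ∣ p ^ k := by
      rw [← hk]
      exact orderOf_map_dvd (QuotientGroup.mk' K) x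
    have h2 : orderOf (x : F ⧸ K) ∣ K.index := orderOf_dvd_natCard _
    have h3 : (p ^ k).Coprime K.index := (hcop.coprime_dvd_left hp).pow_left k
    exact Nat.dvd_one.mp (h3 ▸ Nat.dvd_gcd h1 h2)
  let Q : Sylow p K := P.subtype hPK
  have hQ : (Q : Subgroup K).Normal := by
    have := ((Group.isNilpotent_of_finite_tfae (G := K)).out 0 3).mp hnil
    exact this p inferInstance Q
  have hQc : (Q : Subgroup K).Characteristic := Q.characteristic_of_normal hQ
  have hmap : ((Q : Subgroup K).map K.subtype) = (P : Subgroup F) := by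
    change ((P : Subgroup F).subgroupOf K).map K.subtype = _
    rw [Subgroup.subgroupOf_map_subtype, inf_eq_left.mpr hPK]
  rw [← hmap]
  exact ConjAct.normal_of_characteristic_of_normal

/-- Commuting elements of coprime prime orders. -/
theorem exists_order_mul {G : Type*} [Group G] [Finite G] {x y : G} (hc : Commute x y) {p q : ℕ}
    (hp : p.Prime) (hq : q.Prime) (hpq : p ≠ q) (hx : p ∣ orderOf x) (hy : q ∣ orderOf y) :
    ∃ z : G, orderOf z = p * q := by
  refine ⟨x ^ (orderOf x / p) * y ^ (orderOf y / q), ?_⟩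
  have h1 : orderOf (x ^ (orderOf x / p)) = p :=
    orderOf_pow_orderOf_div (orderOf_pos x).ne' hx
  have h2 : orderOf (y ^ (orderOf y / q)) = q :=
    orderOf_pow_orderOf_div (orderOf_pos y).ne' hy
  rw [(hc.pow_pow _ _).orderOf_mul_eq_mul_orderOf_of_coprime, h1, h2]
  rw [h1, h2]
  exact (Nat.coprime_primes hp hq).mpr hpq

/-- A group with the order type of a Frobenius group is a Frobenius group. -/
theorem exists_complement {F G : Type*} [Group F] [Finite F] [Group G] [Finite G] {e : F ≃ G}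
    (he : ∀ g, orderOf (e g) = orderOf g) (C : Subgroup F) (hC : Cfsg.IsFrobeniusComplement C) :
    ∃ (K : Subgroup F) (N D : Subgroup G), (K : Set F) = Cfsg.frobeniusKernel C ∧
      K.Normal ∧ Group.IsNilpotent K ∧ Subgroup.IsComplement' K C ∧
      (Nat.card K).Coprime (Nat.card C) ∧ (∀ x : F, x ∈ K ∨ ∃ g : F, x ∈ MulAut.conj g • C) ∧
      N.Normal ∧ Group.IsNilpotent N ∧ Subgroup.IsComplement' N D ∧
      Nat.card N = Nat.card K ∧ Nat.card D = Nat.card C ∧ Cfsg.IsFrobeniusComplement D := by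
  obtain ⟨K, hKk, hKn, hKnil, hKC, hcop, hK1, hx⟩ := frob_data C hC
  have hidx : K.index = Nat.card C := hKC.symm.index_eq_card
  have hord := orderOf_dvd hx
  have hcard : Nat.card G = Nat.card K * Nat.card C := by
    rw [← Nat.card_congr e, hKC.card_mul_card]
  -- no element of mixed order in `G`
  have hmix : ∀ p q : ℕ, p.Prime → q.Prime → p ∣ Nat.card K → q ∣ Nat.card C →
      ∀ y : G, orderOf y ≠ p * q := by
    intro p q hp hq hpK hqC y hy
    have h1 := he (e.symm y)
    rw [Equiv.apply_symm_apply, hy] at h1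
    rcases hord (e.symm y) with h2 | h2
    · have h3 : q ∣ Nat.card K := (Dvd.intro_left p (h1 ▸ rfl)).trans h2
      exact hq.one_lt.ne' (Nat.dvd_one.mp (hcop ▸ Nat.dvd_gcd h3 hqC))
    · have h3 : p ∣ Nat.card C := (Dvd.intro q (h1 ▸ rfl)).trans h2
      exact hp.one_lt.ne' (Nat.dvd_one.mp (hcop ▸ Nat.dvd_gcd hpK h3))
  set N := Cfsg.fittingSubgroup G with hN
  have hNnil : Group.IsNilpotent N := Cfsg.Agent.Lib.Cores.fittingSubgroup_isNilpotent
  have hNn : N.Normal := by
    rw [hN]
    exact Cfsg.Agent.Lib.Cores.fittingSubgroup_normal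
  -- Sylow subgroups for the primes of `K`
  have hsyl : ∀ p : ℕ, p.Prime → p ∣ Nat.card K →
      p ^ (Nat.card K).factorization p ∣ Nat.card N := by
    intro p hp hpK
    have := Fact.mk hp
    have hPF := sylow_normal_of_hall hKn hKnil (by rwa [hidx]) hpK (default : Sylow p F)
    let P : Sylow p G := default
    have hPn : (P : Subgroup G).Normal := sylow_normal he (default : Sylow p F) P
    have hPN : (P : Subgroup G) ≤ N :=
      Cfsg.Agent.Lib.Cores.le_fittingSubgroup hPn P.isPGroup'.isNilpotent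
    refine Nat.dvd_trans ?_ (Subgroup.card_dvd_of_le hPN)
    rw [P.card_eq_multiplicity, hcard, Nat.factorization_mul Nat.card_pos.ne' Nat.card_pos.ne']
    exact pow_dvd_pow _ (by simp)
  have hKN : Nat.card K ∣ Nat.card N := by
    rw [← Nat.factorization_prime_le_iff_dvd Nat.card_pos.ne' Nat.card_pos.ne']
    intro p hp
    by_cases hpK : p ∣ Nat.card K
    · exact (Nat.Prime.pow_dvd_iff_le_factorization hp Nat.card_pos.ne').mp (hsyl p hp hpK)
    · rw [Nat.factorization_eq_zero_of_not_dvd hpK]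
      exact Nat.zero_le _
  have hK1' : Nat.card K ≠ 1 := fun h => hK1 (Subgroup.card_eq_one.mp h)
  obtain ⟨p₀, hp₀, hp₀K⟩ := Nat.exists_prime_and_dvd hK1'
  have hNC : (Nat.card N).Coprime (Nat.card C) := by
    by_contra hcon
    obtain ⟨q, hq, hqN, hqC⟩ := Nat.Prime.not_coprime_iff_dvd.mp hcon
    have h1 := Fact.mk hp₀
    have h2 := Fact.mk hq
    have hpq : p₀ ≠ q := by
      rintro rfl
      exact hq.one_lt.ne' (Nat.dvd_one.mp (hcop ▸ Nat.dvd_gcd hp₀K hqC))
    obtain ⟨x, hx⟩ := exists_prime_orderOf_dvd_card' (G := N) p₀ (hp₀K.trans hKN)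
    obtain ⟨y, hy⟩ := exists_prime_orderOf_dvd_card' (G := N) q hqN
    have hcomm : Commute x y := by
      refine Cfsg.Agent.Lib.NilpotentCoprime.commute_of_coprime_orderOf ?_
      rw [hx, hy]
      exact (Nat.coprime_primes hp₀ hq).mpr hpq
    obtain ⟨z, hz⟩ := exists_order_mul hcomm hp₀ hq hpq hx.symm.dvd hy.symm.dvd
    exact hmix p₀ q hp₀ hq hp₀K hqC z (by rw [Subgroup.orderOf_coe, hz])
  have hNK : Nat.card N ∣ Nat.card K := by
    refine hNC.dvd_of_dvd_mul_right ?_
    rw [← hcard]
    exact Subgroup.card_subgroup_dvd_card N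
  have hNK' : Nat.card N = Nat.card K := Nat.dvd_antisymm hNK hKN
  have hNidx : N.index = Nat.card C := by
    have h1 := Subgroup.card_mul_index N
    rw [hcard, hNK'] at h1
    exact Nat.eq_of_mul_eq_mul_left Nat.card_pos h1
  obtain ⟨D, hD⟩ := Subgroup.exists_right_complement'_of_coprime (N := N) (by rwa [hNidx])
  have hDcard : Nat.card D = Nat.card C := by
    rw [← hNidx]
    exact hD.symm.index_eq_card.symm
  refine ⟨K, N, D, hKk, hKn, hKnil, hKC, hcop, hx, hNn, hNnil, hD, hNK', hDcard, ?_⟩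
  have hN1 : N ≠ ⊥ := by
    intro h
    apply hK1'
    rw [← hNK', h, Subgroup.card_bot]
  have hC1 : Nat.card C ≠ 1 := fun h => hC.1 (Subgroup.card_eq_one.mp h)
  have hD1 : D ≠ ⊥ := by
    intro h
    apply hC1
    rw [← hDcard, h, Subgroup.card_bot]
  rw [Cfsg.Agent.S0039.result N D hD hN1 hD1]
  intro d hd hd1
  rw [eq_bot_iff]
  rintro n ⟨hnN, hnd⟩
  rw [Subgroup.mem_bot]
  by_contra hn1
  have ho1 : orderOf n ≠ 1 := fun h => hn1 (orderOf_eq_one_iff.mp h)
  have ho2 : orderOf d ≠ 1 := fun h => hd1 (orderOf_eq_one_iff.mp h)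
  obtain ⟨p, hp, hpn⟩ := Nat.exists_prime_and_dvd ho1
  obtain ⟨q, hq, hqd⟩ := Nat.exists_prime_and_dvd ho2
  have hpK : p ∣ Nat.card K := by
    rw [← hNK']
    exact hpn.trans (Subgroup.orderOf_dvd_natCard N hnN)
  have hqC : q ∣ Nat.card C := by
    rw [← hDcard]
    exact hqd.trans (Subgroup.orderOf_dvd_natCard D hd)
  have hpq : p ≠ q := by
    rintro rfl
    exact hq.one_lt.ne' (Nat.dvd_one.mp (hcop ▸ Nat.dvd_gcd hpK hqC))
  have hcomm : Commute n d := by
    have hnd' : n ∈ Subgroup.centralizer {d} := hnd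
    rw [Subgroup.mem_centralizer_iff] at hnd'
    exact (hnd' d rfl).symm
  obtain ⟨z, hz⟩ := exists_order_mul hcomm hp hq hpq hpn hqd
  exact hmix p q hp hq hpK hqC z hz

/-- Transport of a Frobenius complement along an isomorphism. -/
theorem isFrobeniusComplement_map {F L : Type*} [Group F] [Group L] (f : F ≃* L) {C : Subgroup F}
    (hC : Cfsg.IsFrobeniusComplement C) :
    Cfsg.IsFrobeniusComplement (C.map f.toMonoidHom) := by
  obtain ⟨h1, h2, h3⟩ := hC
  refine ⟨?_, ?_, ?_⟩
  · rwa [Ne, Subgroup.map_eq_bot_iff_of_injective _ f.injective]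
  · intro h
    apply h2
    rw [eq_top_iff]
    intro x _
    have : f x ∈ C.map f.toMonoidHom := h ▸ Subgroup.mem_top _
    obtain ⟨y, hy, hxy⟩ := this
    rwa [← f.injective hxy]
  · intro g hg
    obtain ⟨g', rfl⟩ := f.surjective g
    have hg' : g' ∉ C := fun h => hg ⟨g', h, rfl⟩
    rw [eq_bot_iff]
    rintro _ ⟨⟨x, hx, rfl⟩, ⟨_, ⟨y, hy, rfl⟩, hxy⟩⟩
    have hxy' : g' * y * g'⁻¹ = x := by
      apply f.injective
      rw [map_mul, map_mul, map_inv]
      exact hxy
    have : x ∈ C ⊓ (MulAut.conj g' • C) := ⟨hx, ⟨y, hy, hxy'⟩⟩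
    rw [h3 g' hg', Subgroup.mem_bot] at this
    rw [Subgroup.mem_bot, this]
    exact map_one f

theorem isCyclic_of_card_fifteen {G : Type*} [Group G] [Finite G] (h : Nat.card G = 15) :
    ∃ x : G, orderOf x = 15 := by
  have h3 := Fact.mk Nat.prime_three
  have h5 := Fact.mk Nat.prime_five
  let P : Sylow 5 G := default
  let Q : Sylow 3 G := default
  have hfac5 : Nat.factorization 15 5 = 1 := by
    rw [show (15 : ℕ) = 5 * 3 by norm_num, Nat.factorization_mul (by norm_num) (by norm_num)]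
    simp [Nat.prime_five.factorization, Nat.prime_three.factorization]
  have hfac3 : Nat.factorization 15 3 = 1 := by
    rw [show (15 : ℕ) = 5 * 3 by norm_num, Nat.factorization_mul (by norm_num) (by norm_num)]
    simp [Nat.prime_five.factorization, Nat.prime_three.factorization]
  have hPc : Nat.card P = 5 := by rw [P.card_eq_multiplicity, h, hfac5, pow_one]
  have hQc : Nat.card Q = 3 := by rw [Q.card_eq_multiplicity, h, hfac3, pow_one]
  have hPi : (P : Subgroup G).index = 3 := by
    have := Subgroup.card_mul_index (P : Subgroup G)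
    rw [h] at this
    have h6 : Nat.card (P : Subgroup G) = 5 := hPc
    rw [h6] at this
    omega
  have hQi : (Q : Subgroup G).index = 5 := by
    have := Subgroup.card_mul_index (Q : Subgroup G)
    rw [h] at this
    have h6 : Nat.card (Q : Subgroup G) = 3 := hQc
    rw [h6] at this
    omega
  have hPn : (P : Subgroup G).Normal := by
    have h1 : Nat.card (Sylow 5 G) ∣ 3 := hPi ▸ P.card_dvd_index
    have h2 : Nat.card (Sylow 5 G) ≡ 1 [MOD 5] := card_sylow_modEq_one 5 G
    have h4 : Nat.card (Sylow 5 G) = 1 := by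
      rcases (Nat.dvd_prime Nat.prime_three).mp h1 with h | h
      · exact h
      · rw [h] at h2
        exact absurd h2 (by decide)
    have := (Nat.card_eq_one_iff_unique.mp h4).1
    exact P.normal_of_subsingleton
  have hQn : (Q : Subgroup G).Normal := by
    have h1 : Nat.card (Sylow 3 G) ∣ 5 := hQi ▸ Q.card_dvd_index
    have h2 : Nat.card (Sylow 3 G) ≡ 1 [MOD 3] := card_sylow_modEq_one 3 G
    have h4 : Nat.card (Sylow 3 G) = 1 := by
      rcases (Nat.dvd_prime Nat.prime_five).mp h1 with h | h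
      · exact h
      · rw [h] at h2
        exact absurd h2 (by decide)
    have := (Nat.card_eq_one_iff_unique.mp h4).1
    exact Q.normal_of_subsingleton
  obtain ⟨x, hx⟩ := exists_prime_orderOf_dvd_card' (G := P) 5 (by rw [hPc])
  obtain ⟨y, hy⟩ := exists_prime_orderOf_dvd_card' (G := Q) 3 (by rw [hQc])
  have hdisj : Disjoint (P : Subgroup G) (Q : Subgroup G) := by
    apply Subgroup.disjoint_of_coprime_natCard
    rw [hPc, hQc]
    norm_num
  have hcomm : Commute (x : G) (y : G) :=
    Subgroup.commute_of_normal_of_disjoint _ _ hPn hQn hdisj _ _ x.2 y.2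
  refine ⟨(x : G) * (y : G), ?_⟩
  rw [hcomm.orderOf_mul_eq_mul_orderOf_of_coprime, Subgroup.orderOf_coe, Subgroup.orderOf_coe, hx,
    hy]
  rw [Subgroup.orderOf_coe, Subgroup.orderOf_coe, hx, hy]
  norm_num

open Cfsg.Agent.PermutationGroups.AutSL25 in
theorem SL25_pow_aux : ∀ x : SL25, x ^ 15 = 1 → x ^ 3 = 1 ∨ x ^ 5 = 1 := by decide +kernel

open Cfsg.Agent.PermutationGroups.AutSL25 in
/-- A nonsolvable Frobenius complement has order `120 m` or `240 m` with `m` prime to `30` and
has no element of order `15`. -/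
theorem complement_nonsolvable {F : Type*} [Group F] [Finite F] {C : Subgroup F}
    (hC : Cfsg.IsFrobeniusComplement C) (hns : ¬ Group.IsSolvable C) :
    (∃ m : ℕ, m.Coprime 30 ∧ (Nat.card C = 120 * m ∨ Nat.card C = 240 * m)) ∧
      ∀ x : C, orderOf x ≠ 15 := by
  let f : F ≃* Shrink.{0} F := Shrink.mulEquiv.symm
  have hfin : Finite (Shrink.{0} F) := Finite.of_equiv F f.toEquiv
  obtain ⟨G₀, hG₀, hidx, S, M, hSM, hinf, hcomm, ⟨e⟩, -, hcop⟩ :=
    Cfsg.Agent.S3359.result (G := C) hns
      ⟨Shrink.{0} F, inferInstance, hfin, C.map f.toMonoidHom, isFrobeniusComplement_map f hC,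
        ⟨C.equivMapOfInjective f.toMonoidHom f.injective⟩⟩
  have hS : Nat.card S = 120 := by
    rw [Nat.card_congr e.toEquiv]
    exact natCard
  have hG0 : Nat.card G₀ = 120 * Nat.card M := by
    rw [← hSM, Cfsg.Agent.OddOrderLocal.CommProd.card_sup_of_comm hcomm hinf, hS]
  constructor
  · refine ⟨Nat.card M, hcop, ?_⟩
    have h1 := Subgroup.card_mul_index G₀
    rcases hidx with h | h
    · left
      rw [← h1, h, hG0, mul_one]
    · right
      rw [← h1, h, hG0]
      ring
  · intro x hx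
    have h1 : x ^ 2 ∈ G₀ := by
      rcases hidx with h | h
      · rw [Subgroup.index_eq_one.mp h]
        exact Subgroup.mem_top _
      · exact Subgroup.sq_mem_of_index_two h x
    have h2 : orderOf (x ^ 2) = 15 := by
      rw [orderOf_pow, hx]
      norm_num
    rw [← hSM, Cfsg.Agent.OddOrderLocal.CommProd.mem_sup_of_comm hcomm] at h1
    obtain ⟨s, hs, m, hm, hsm⟩ := h1
    have h3 : (s * m) ^ 15 = 1 := by
      rw [← hsm, ← h2, pow_orderOf_eq_one]
    have hcm : Commute s m := hcomm s hs m hm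
    rw [hcm.mul_pow] at h3
    have h4 : m ^ 15 ∈ S ⊓ M := by
      refine ⟨?_, M.pow_mem hm 15⟩
      rw [← inv_eq_of_mul_eq_one_right h3]
      exact S.inv_mem (S.pow_mem hs 15)
    rw [hinf, Subgroup.mem_bot] at h4
    have h5 : m = 1 := by
      rw [← orderOf_eq_one_iff]
      have h6 : orderOf m ∣ 15 := orderOf_dvd_of_pow_eq_one h4
      have h7 : orderOf m ∣ Nat.card M := Subgroup.orderOf_dvd_natCard M hm
      have h8 : orderOf m ∣ 30 := h6.trans (by norm_num)
      exact Nat.dvd_one.mp (hcop ▸ Nat.dvd_gcd h7 h8)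
    rw [h5, mul_one] at hsm
    rw [hsm] at h2
    have h6 : orderOf (e ⟨s, hs⟩) = 15 := by
      rw [MulEquiv.orderOf_eq, Subgroup.orderOf_mk, h2]
    rcases SL25_pow_aux (e ⟨s, hs⟩) (by rw [← h6, pow_orderOf_eq_one]) with h | h
    · have := orderOf_dvd_of_pow_eq_one h
      rw [h6] at this
      exact absurd this (by norm_num)
    · have := orderOf_dvd_of_pow_eq_one h
      rw [h6] at this
      exact absurd this (by norm_num)

/-- A Frobenius group with the order type of a solvable group is solvable. -/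
theorem solvable_of_equiv {F G : Type*} [Group F] [Finite F] [Group G] [Finite G] {e : F ≃ G}
    (he : ∀ g, orderOf (e g) = orderOf g) {C K : Subgroup F} (hC : Cfsg.IsFrobeniusComplement C)
    (hKn : K.Normal) (hKnil : Group.IsNilpotent K) (hKC : Subgroup.IsComplement' K C)
    (hcop : (Nat.card K).Coprime (Nat.card C))
    (hx : ∀ x : F, x ∈ K ∨ ∃ g : F, x ∈ MulAut.conj g • C) (hG : Group.IsSolvable G) :
    Group.IsSolvable F := by
  by_contra hns
  have hCs : ¬ Group.IsSolvable C := by
    intro hCs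
    apply hns
    have hKs : Group.IsSolvable K := inferInstance
    have hq : Group.IsSolvable (F ⧸ K) := by
      have e1 : C ≃* F ⧸ K := hKC.symm.QuotientMulEquiv.symm
      exact Group.isSolvable_of_surjective (f := e1.toMonoidHom) e1.surjective
    exact Group.isSolvable_of_ker_le_range K.subtype (QuotientGroup.mk' K) (by
      rw [QuotientGroup.ker_mk', Subgroup.range_subtype])
  obtain ⟨⟨m, hm, hcard⟩, hno⟩ := complement_nonsolvable hC hCs
  have hK30 : (Nat.card K).Coprime 30 := by
    refine hcop.coprime_dvd_right ?_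
    rcases hcard with h | h
    · rw [h]
      exact (by norm_num : (30 : ℕ) ∣ 120).trans (Dvd.intro _ rfl)
    · rw [h]
      exact (by norm_num : (30 : ℕ) ∣ 240).trans (Dvd.intro _ rfl)
  have hF : Nat.card G = Nat.card K * Nat.card C := by
    rw [← Nat.card_congr e, hKC.card_mul_card]
  have h15 : ∃ n : ℕ, Nat.card G = 15 * n ∧ Nat.Coprime 15 n := by
    have h1 : Nat.Coprime 15 (Nat.card K) := by
      rw [Nat.coprime_comm]
      exact hK30.coprime_dvd_right (by norm_num)
    have h2 : Nat.Coprime 15 m := by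
      rw [Nat.coprime_comm]
      exact hm.coprime_dvd_right (by norm_num)
    rcases hcard with h | h
    · refine ⟨8 * (Nat.card K * m), by rw [hF, h]; ring, ?_⟩
      exact Nat.Coprime.mul_right (by norm_num) (Nat.Coprime.mul_right h1 h2)
    · refine ⟨16 * (Nat.card K * m), by rw [hF, h]; ring, ?_⟩
      exact Nat.Coprime.mul_right (by norm_num) (Nat.Coprime.mul_right h1 h2)
  obtain ⟨n, hn, hn15⟩ := h15
  obtain ⟨H, hH⟩ := Cfsg.Agent.S0003.result 15 n hn hn15
  obtain ⟨y, hy⟩ := isCyclic_of_card_fifteen hH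
  have hy' : orderOf (e.symm (y : G)) = 15 := by
    have := he (e.symm (y : G))
    rw [Equiv.apply_symm_apply, Subgroup.orderOf_coe, hy] at this
    exact this.symm
  rcases hx (e.symm (y : G)) with h | ⟨g, h⟩
  · have h1 := Subgroup.orderOf_dvd_natCard K h
    rw [hy'] at h1
    have h2 : 15 ∣ Nat.gcd (Nat.card K) 30 := Nat.dvd_gcd h1 (by norm_num)
    rw [hK30] at h2
    exact absurd h2 (by norm_num)
  · obtain ⟨c, hc, hcy⟩ := h
    apply hno ⟨c, hc⟩
    rw [Subgroup.orderOf_mk, ← hy', ← hcy]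
    exact (MulEquiv.orderOf_eq (MulAut.conj g) c).symm

end Cfsg.Agent.H495.Frob
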