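import Cfsg.Agent.CpAutTh.Seven
import Cfsg.Agent.H478.Th3C
import Cfsg.Agent.H164.ThFiveRow
import Cfsg.Agent.ThType.Seven
import Cfsg.Agent.MonsterX.ThOneClass
import Cfsg.Agent.KFacts.Th.Main
import Cfsg.Agent.H602.SprThA

/-!
# Representatives of the classes of elements of order 3, 5, 7 of `Spor.Th` (helper495, for S3938)

Every such element commutes with an involution and all involutions are conjugate, so it is conjugate to one of the
words `X3`, `X33`, `X333`, `X5`, `X7` of `CpAutTh`; the words are linked to the 248-dimensional matrices by `W_lw`.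
-/

set_option autoImplicit false

namespace Cfsg.Agent.H495.SprThRep

open Subgroup Cfsg Cfsg.Agent.Th.Word Cfsg.Agent.Th.Gen248 Cfsg.Agent.Th.Hom248 Cfsg.Agent.Th.IndexUpper
open Cfsg.Agent.CpAutTh.Data Cfsg.Agent.CpAutTh.Local
open Cfsg.Agent.ThType.Seven (W rho_W W_mul W_inv W_pow W_one W_eq W_ne)

/-! ### Words -/

/-- the letter `n` as a matrix word -/
def lt : ℕ → Wd
  | 1 => .g .a
  | 2 => .g .b
  | 3 => .g .c
  | 4 => .g .d
  | 5 => .g .e
  | 6 => .g .s
  | 7 => .g .S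
  | 8 => .g .t
  | 9 => .g .T
  | 10 => .g .u
  | 11 => .g .U
  | _ => .one

/-- a list of letters as a matrix word -/
def lw : List ℕ → Wd
  | [] => .one
  | [x] => lt x
  | x :: y :: w => .mul (lt x) (lw (y :: w))

theorem W_lt (n : ℕ) : W (lt n) = gTh n := by
  match n with
  | 0 => exact W_one
  | 1 => rfl
  | 2 => rfl
  | 3 => rfl
  | 4 => rfl
  | 5 => rfl
  | 6 => rfl
  | 7 => exact map_inv _ _
  | 8 => rfl
  | 9 => exact map_inv _ _
  | 10 => rfl
  | 11 => exact map_inv _ _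
  | n + 12 => exact W_one

theorem W_lw (w : List ℕ) : W (lw w) = ev gTh w := by
  induction w with
  | nil => exact W_one
  | cons x w ih =>
    cases w with
    | nil => rw [ev_cons, ev_nil, mul_one]; exact W_lt x
    | cons y w =>
      rw [ev_cons, ← ih, ← W_lt]
      exact W_mul _ _

/-! ### Representatives -/

theorem isTh : Cfsg.IsTh Spor.Th := Cfsg.Agent.Th.Main1700.isTh

theorem hone (u : Spor.Th) (hu : orderOf u = 2) : ∃ g : Spor.Th, g * u * g⁻¹ = gTh 1 :=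
  isConj_iff.1 (MonsterX.ThOneClass.oneClass u (gTh 1) hu MonsterX.ThOneClass.orderOf_a)

/-- **elements of order 3** -/
theorem rep3 {x : Spor.Th} (hx : orderOf x = 3) :
    ∃ g : Spor.Th, g * x * g⁻¹ = ev gTh X3 ∨ g * x * g⁻¹ = ev gTh X33 ∨ g * x * g⁻¹ = ev gTh X333 := by
  have h := Cfsg.Agent.KFacts.Th.Main.ctx
  obtain ⟨f, F⟩ := exists_epi h
  obtain ⟨t, ht, hxt⟩ := Cfsg.Agent.H478.ThThree.exists_invol hx
  obtain ⟨g, -, hg⟩ := CpAutTh.Mid.exists_pair h hone hx ht hxt.symm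
    (P := fun z => z = ev gTh X3 ∨ z = ev gTh X33 ∨ z = ev gTh X333) (fun y hy => by
      obtain ⟨c, hc | hc | hc⟩ := exists_rep_three h F hy
      · exact ⟨c, Or.inl (congrArg Subtype.val hc)⟩
      · exact ⟨c, Or.inr (Or.inl (congrArg Subtype.val hc))⟩
      · exact ⟨c, Or.inr (Or.inr (congrArg Subtype.val hc))⟩)
  exact ⟨g, hg⟩

/-- **elements of order 5** -/
theorem rep5 {x : Spor.Th} (hx : orderOf x = 5) : ∃ g : Spor.Th, g * x * g⁻¹ = ev gTh X5 := by
  have h := Cfsg.Agent.KFacts.Th.Main.ctx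
  obtain ⟨f, F⟩ := exists_epi h
  obtain ⟨t, ht, hxt⟩ := Cfsg.Agent.H164.ThFiveRow.exists_invol hx
  obtain ⟨g, -, hg⟩ := CpAutTh.Mid.exists_pair h hone hx ht hxt (P := fun z => z = ev gTh X5) (fun y hy => by
    obtain ⟨c, hc⟩ := exists_rep_five h F hy
    exact ⟨c, congrArg Subtype.val hc⟩)
  exact ⟨g, hg⟩

/-- **elements of order 7** -/
theorem rep7 {x : Spor.Th} (hx : orderOf x = 7) : ∃ g : Spor.Th, g * x * g⁻¹ = ev gTh X7 := by
  have h := Cfsg.Agent.KFacts.Th.Main.ctx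
  obtain ⟨f, F⟩ := exists_epi h
  obtain ⟨t, ht, hxt⟩ := Cfsg.Agent.ThType.Seven.exists_involution_Th isTh hx
  obtain ⟨g, -, hg⟩ := CpAutTh.Mid.exists_pair h hone hx ht hxt (P := fun z => z = ev gTh X7) (fun y hy => by
    obtain ⟨c, hc⟩ := exists_rep_seven h F hy
    exact ⟨c, congrArg Subtype.val hc⟩)
  exact ⟨g, hg⟩

/-! ### The representatives of `H602/SprThData` -/

theorem ev3 : ev gTh X3 = W Cfsg.Agent.H602.SprThData.w3 := by
  rw [← W_lw]
  simp only [X3, lw, lt, Cfsg.Agent.H602.SprThData.w3, W_mul, mul_assoc]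

theorem ev33 : ev gTh X33 = W Cfsg.Agent.H602.SprThData.w33 := (W_lw _).symm

theorem ev333 : ev gTh X333 = W Cfsg.Agent.H602.SprThData.w333 := (W_lw _).symm

theorem ev5 : ev gTh X5 = W Cfsg.Agent.H602.SprThData.w5 := by
  rw [← W_lw]
  simp only [X5, lw, lt, Cfsg.Agent.H602.SprThData.w5, W_mul, mul_assoc]

theorem ev7 : ev gTh X7 = W Cfsg.Agent.H602.SprThData.w7 := (W_lw _).symm

/-- **The input `Reps` of `H602/SprThA`** -/
theorem reps : Cfsg.Agent.H602.SprTh.Reps := by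
  refine ⟨fun x hx => ?_, fun x hx => ?_, fun x hx => ?_⟩
  · obtain ⟨g, hg⟩ := rep3 hx
    rw [ev3, ev33, ev333] at hg
    exact ⟨g, hg⟩
  · obtain ⟨g, hg⟩ := rep5 hx
    rw [ev5] at hg
    exact ⟨g, hg⟩
  · obtain ⟨g, hg⟩ := rep7 hx
    rw [ev7] at hg
    exact ⟨g, hg⟩

end Cfsg.Agent.H495.SprThRep
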